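import Groth.Agent.Lef.K184.FormalHH
import Groth.Agent.Surf.K461.DualLF
import Groth.Agent.Sga2.PnHomAdj
import Groth.Agent.Dcoh.MonClosed
import Groth.Agent.Ega3B.TensRestrict
import Groth.Agent.PerfA.PerfLocal
import Groth.Agent.Dcoh.MonInst

/-!
# Formal duality with bounded ranks

`X` proper over a field `k`, `τ` a perfect form for `W[n]`, `F` coherent, `S` a system of submodules of `F` that
satisfies the hypotheses of Deligne's formula for the open immersion `j : U ⟶ X`.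

* `linear_restrictD`: `DCoh.restrictD j` is `k`-linear;
* `rank_le`: if the maps `H^i(X, K t') → H^i(X, K t)` have rank `≤ B` for `t' ≫ t`, then
  `Hom_{D(U)}(F|_U, W|_U[n-i])` has dimension `≤ B`;
* `finite_HH`: the same for `H^(n-i)(U, G)` if `F` is invertible with inverse `I` and `I|_U ⊗ W|_U ≅ G`.
-/

set_option autoImplicit false
universe w w' v v' u u'
open CategoryTheory CategoryTheory.Limits CategoryTheory.Pretriangulated AlgebraicGeometry Opposite
attribute [local instance] HasDerivedCategory.standard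

namespace K778.DualGen

open Groth.Agent Groth.Agent.CurvesC Groth.Agent.CurvesC.RepX K184.FormalDual K184.FormalDualAbs

section Linear

theorem finrank_range_eq (k : Type*) [Field k] {V W V' W' : Type*} [AddCommGroup V] [AddCommGroup W] [AddCommGroup V']
    [AddCommGroup W'] [Module k V] [Module k W] [Module k V'] [Module k W'] (f : V →ₗ[k] W) (g : V' →ₗ[k] W')
    (e : V ≃ₗ[k] V') (e' : W ≃ₗ[k] W') (h : ∀ x, g (e x) = e' (f x)) :
    Module.finrank k (LinearMap.range g) = Module.finrank k (LinearMap.range f) := by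
  have h1 : g ∘ₗ e.toLinearMap = e'.toLinearMap ∘ₗ f := LinearMap.ext h
  have h2 : LinearMap.range g = Submodule.map e'.toLinearMap (LinearMap.range f) := by
    rw [← LinearMap.range_comp, ← h1, LinearMap.range_comp, LinearEquiv.range, Submodule.map_top]
  rw [h2]
  exact LinearEquiv.finrank_map_eq e' _

theorem linear_mapDerivedCategory (R : Type*) [Ring R] {C : Type u} [Category.{v} C] [Abelian C] [Linear R C]
    [HasDerivedCategory.{w} C] {D : Type u'} [Category.{v'} D] [Abelian D] [Linear R D]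
    [HasDerivedCategory.{w'} D] (F : C ⥤ D) [F.Additive] [F.Linear R]
    [PreservesFiniteLimits F] [PreservesFiniteColimits F] : F.mapDerivedCategory.Linear R := by
  have h2 : (DerivedCategory.Qh ⋙ F.mapDerivedCategory).Linear R :=
    Functor.linear_of_iso _ (F.mapDerivedCategoryFactorsh).symm
  let _ : Localization.Lifting DerivedCategory.Qh (HomotopyCategory.quasiIso C (ComplexShape.up ℤ))
    (DerivedCategory.Qh ⋙ F.mapDerivedCategory) F.mapDerivedCategory :=
    ⟨Iso.refl _⟩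
  exact (Localization.functor_linear_iff DerivedCategory.Qh
    (HomotopyCategory.quasiIso C (ComplexShape.up ℤ)) R
    (DerivedCategory.Qh ⋙ F.mapDerivedCategory) _).1 h2

end Linear

attribute [local instance] LinMod.linearModules

variable (k : Type u) [Field k] {X U : Scheme.{u}} [X.Over (Spec (CommRingCat.of k))]
  [U.Over (Spec (CommRingCat.of k))] (j : U ⟶ X) [IsOpenImmersion j]

omit [U.Over (Spec (CommRingCat.of k))] in
theorem appIso_hom_res (W : U.Opens) (s : Γ(X, ⊤)) :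
    (j.appIso W).hom (X.presheaf.map (homOfLE (le_top : j ''ᵁ W ≤ ⊤)).op s) =
      U.presheaf.map (homOfLE (le_top : W ≤ ⊤)).op (j.appTop s) := by
  have h1 : X.presheaf.map (homOfLE (le_top : j ''ᵁ W ≤ ⊤)).op ≫ (j.appIso W).hom =
      j.appTop ≫ U.presheaf.map (homOfLE (le_top : W ≤ ⊤)).op := by
    rw [Scheme.Hom.appIso_hom', Scheme.Hom.map_appLE]
    rfl
  exact ConcreteCategory.congr_hom h1 s

theorem restrict_map_smulMod (hj : j ≫ (X ↘ Spec (CommRingCat.of k)) = (U ↘ Spec (CommRingCat.of k)))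
    (M : X.Modules) (a : k) :
    (Scheme.Modules.restrictFunctor j).map (Formal.smulMod k M a) = Formal.smulMod k (M.restrict j) a := by
  ext W m
  have h1 : Coh.toGlobal (U ↘ Spec (CommRingCat.of k)) a =
      j.appTop (Coh.toGlobal (X ↘ Spec (CommRingCat.of k)) a) := by
    rw [← hj]
    change (((j ≫ (X ↘ Spec (CommRingCat.of k))).appTop).hom.comp
      (Scheme.ΓSpecIso (CommRingCat.of k)).inv.hom) a = _
    rw [Scheme.Hom.comp_appTop]
    rfl
  have h2 : (j.appIso W).inv (FormalB.ModPow.resΓ U W (Coh.toGlobal (U ↘ Spec (CommRingCat.of k)) a)) =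
      FormalB.ModPow.resΓ X (j ''ᵁ W) (Coh.toGlobal (X ↘ Spec (CommRingCat.of k)) a) := by
    have h3 := appIso_hom_res j W (Coh.toGlobal (X ↘ Spec (CommRingCat.of k)) a)
    have h4 := congrArg (fun t => (j.appIso W).inv t) h3
    rw [h1]
    refine h4.symm.trans ?_
    exact ConcreteCategory.congr_hom (j.appIso W).hom_inv_id _
  refine (FormalB.ModPow.smulMod_app M a (j ''ᵁ W) m).trans (Eq.trans ?_
    (FormalB.ModPow.smulMod_app (M.restrict j) a W m).symm)
  have h5 : (show Γ(M, j ''ᵁ W) from (FormalB.ModPow.resΓ U W (Coh.toGlobal (U ↘ Spec (CommRingCat.of k)) a) •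
      (show Γ(M.restrict j, W) from m))) =
      ((j.appIso W).inv (FormalB.ModPow.resΓ U W (Coh.toGlobal (U ↘ Spec (CommRingCat.of k)) a))) •
        (show Γ(M, j ''ᵁ W) from m) := rfl
  refine Eq.trans ?_ h5.symm
  rw [h2]

theorem linear_restrictD (hj : j ≫ (X ↘ Spec (CommRingCat.of k)) = (U ↘ Spec (CommRingCat.of k))) :
    (DCoh.restrictD j).Linear k := by
  have h1 : (Scheme.Modules.restrictFunctor j).Linear k := ⟨fun {M N} f a => by
    rw [LinMod.smul_def, LinMod.smul_def, Functor.map_comp, restrict_map_smulMod k j hj]⟩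
  exact linear_mapDerivedCategory k (Scheme.Modules.restrictFunctor j)

variable [IsProper (X ↘ Spec (CommRingCat.of k))] [IsNoetherian X] [IsNoetherian U]

theorem rank_le (hj : j ≫ (X ↘ Spec (CommRingCat.of k)) = (U ↘ Spec (CommRingCat.of k)))
    {W : X.Modules} (hW : Coh.IsQCoh W) (n : ℤ) (τ : (P X ⟶ (DCoh.inD X W)⟦n⟧) →ₗ[k] k)
    (hτ : ∀ K : DCoh.D X, DCoh.IsQCohD K → Function.Bijective (pair k τ K))
    {F : X.Modules} (S : Sys F) (hk : Kills j S) (hKc : ∀ t, Coh.IsCoh (S.K t)) (i : ℕ) (B : ℕ)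
    (hB : ∀ t : ℕ, ∃ (t' : ℕ) (h : t ≤ t'), Module.finrank k (LinearMap.range (HV.map k (S.s h) i)) ≤ B) :
    Module.rank k ((DCoh.restrictD j).obj (DCoh.inD X F) ⟶
      (DCoh.restrictD j).obj ((DCoh.inD X W)⟦n - i⟧)) ≤ B := by
  have hlin := linear_restrictD k j hj
  have hWD : DCoh.IsQCohD (DCoh.inD X W) := PerfA.QCohD.isQCohD_inD W hW
  have hKD : ∀ t, DCoh.IsQCohD (S.tower.K t) := fun t => PerfA.QCohD.isQCohD_inD _ (hKc t).1
  obtain ⟨τ₁, hτ₁⟩ := exists_shift k τ hτ (-(i : ℤ))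
  let e : (DCoh.inD X W)⟦n⟧⟦-(i : ℤ)⟧ ≅ (DCoh.inD X W)⟦n - i⟧ :=
    ((shiftFunctorAdd' (DCoh.D X) n (-(i : ℤ)) (n - i) (by omega)).app (DCoh.inD X W)).symm
  let τ' : ((P X)⟦-(i : ℤ)⟧ ⟶ (DCoh.inD X W)⟦n - i⟧) →ₗ[k] k := τ₁ ∘ₗ Linear.rightComp k _ e.inv
  have hτ' : ∀ K : DCoh.D X, DCoh.IsQCohD K → Function.Bijective (pair k τ' K) := by
    intro K hK
    have h1 : Function.Bijective (fun φ : K ⟶ (DCoh.inD X W)⟦n - i⟧ => φ ≫ e.inv) := e.symm.homToEquiv.bijective
    convert (hτ₁ K hK).comp h1 using 1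
    funext φ
    ext s
    change τ₁ ((s ≫ φ) ≫ e.inv) = τ₁ (s ≫ φ ≫ e.inv)
    rw [Category.assoc]
  have hfK : ∀ t, Module.Finite k ((P X)⟦-(i : ℤ)⟧ ⟶ S.tower.K t) := fun t => finite_hom_neg k (hKc t) i
  refine K184.FormalDual.finrank_le hk (PerfA.QCohD.isQCohD_shift hWD (n - i)) (-(n - i)) (isZero_HD_shift W (n - i)) τ'
    (fun t => hτ' _ (hKD t)) B fun t => ?_
  obtain ⟨t', h, hr⟩ := hB t
  refine ⟨t', h, ?_⟩
  exact (finrank_range_eq k (HV.map k (S.s h) i) (Linear.rightComp k ((P X)⟦-(i : ℤ)⟧)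
    ((K184.DeligneMod.ind X).map (S.s h)))
    (hhE k (S.K t') i) (hhE k (S.K t) i) fun x => (hhE_map k (S.s h) i x).symm).trans_le hr

/-- `Hom(L, G) = L⁻¹ ⊗ G`. -/
theorem nonempty_sheafHom_iso {X : Scheme.{u}} {L I : X.Modules} [DCoh.HasSheafHom L]
    (e : CohB1.tensorMod L I ≅ Coh.structureModule X) (G : X.Modules) :
    Nonempty ((DCoh.sheafHom L).obj G ≅ CohB1.tensorMod I G) := by
  open scoped Groth.Agent.Dcoh.MonCat in
  open MonoidalCategory in
  let e1 : L ⊗ I ≅ 𝟙_ X.Modules := e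
  let ε : tensorLeft I ⋙ tensorLeft L ≅ 𝟭 X.Modules :=
    (tensorLeftTensor L I).symm ≪≫ (tensoringLeft X.Modules).mapIso e1 ≪≫ leftUnitorNatIso X.Modules
  let η : 𝟭 X.Modules ≅ tensorLeft L ⋙ tensorLeft I :=
    ((tensorLeftTensor I L).symm ≪≫ (tensoringLeft X.Modules).mapIso (β_ I L ≪≫ e1) ≪≫
      leftUnitorNatIso X.Modules).symm
  let adj : tensorLeft L ⊣ tensorLeft I := (CategoryTheory.Equivalence.mk _ _ η ε).toAdjunction
  let e' : DCoh.sheafHom L ≅ tensorLeft I := Adjunction.rightAdjointUniq (DCoh.sheafHomAdj L) adj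
  exact ⟨e'.app G⟩

/-- An isomorphism of modules induces an isomorphism of cohomology groups. -/
noncomputable def hvIso (k : Type u) [Field k] {X : Scheme.{u}} [X.Over (Spec (CommRingCat.of k))] {M N : X.Modules}
    (e : M ≅ N) (n : ℕ) : HV X M n ≃ₗ[k] HV X N n :=
  LinearEquiv.ofLinearMap (HV.map k e.hom n) (HV.map k e.inv n)
    (by rw [← HV.map_comp, e.inv_hom_id, HV.map_id]) (by rw [← HV.map_comp, e.hom_inv_id, HV.map_id])

/-- `H^m(U, G|_U)` is finite-dimensional, `m = n - i`, if the maps `H^i(X, K t') → H^i(X, K t)` have bounded rank;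
`F` is invertible with inverse `I` and `G = I ⊗ W`. -/
theorem finite_HH (hj : j ≫ (X ↘ Spec (CommRingCat.of k)) = (U ↘ Spec (CommRingCat.of k)))
    {W : X.Modules} (hW : Coh.IsQCoh W) (n : ℤ) (τ : (P X ⟶ (DCoh.inD X W)⟦n⟧) →ₗ[k] k)
    (hτ : ∀ K : DCoh.D X, DCoh.IsQCohD K → Function.Bijective (pair k τ K))
    {F I : X.Modules} (hF : FlatMod.IsFinLocFree F) (e : CohB1.tensorMod F I ≅ Coh.structureModule X)
    {G : X.Modules} (g : CohB1.tensorMod I W ≅ G)
    (S : Sys F) (hk : Kills j S) (hKc : ∀ t, Coh.IsCoh (S.K t)) (i m : ℕ) (hm : n - i = m) (B : ℕ)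
    (hB : ∀ t : ℕ, ∃ (t' : ℕ) (h : t ≤ t'), Module.finrank k (LinearMap.range (HV.map k (S.s h) i)) ≤ B) :
    Module.Finite k (Coh.HH U (G.restrict j) m) := by
  have h1 := rank_le k j hj hW n τ hτ S hk hKc i B hB
  rw [hm] at h1
  have h2 : Module.Finite k ((DCoh.restrictD j).obj (DCoh.inD X F) ⟶
      (DCoh.restrictD j).obj ((DCoh.inD X W)⟦(m : ℤ)⟧)) :=
    Module.rank_lt_aleph0_iff.1 (h1.trans_lt (Cardinal.natCast_lt_aleph0))
  let E1 := Linear.homCongr k (K184.LefSys.res j F) (K184.LefSys.resShift j W (m : ℤ))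
  have h3 := Module.Finite.equiv E1
  have hF' : FlatMod.IsFinLocFree (F.restrict j) := Groth.Agent.PerfA.PerfLocal.isFinLocFree_restrict j hF
  obtain ⟨E2⟩ := K461.DualLF.nonempty_hom_equiv k hF' (W.restrict j) m
  have h4 := Module.Finite.equiv (E2.trans (HV.equiv k _ m))
  obtain ⟨t⟩ := nonempty_sheafHom_iso ((Ega3B.TensRestrict.restrictIso j F I).symm ≪≫
    (Scheme.Modules.restrictFunctor j).mapIso e ≪≫ Scheme.Modules.restrictUnitIso j) (W.restrict j)
  let g' : (DCoh.sheafHom (F.restrict j)).obj (W.restrict j) ≅ G.restrict j :=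
    t ≪≫ (Ega3B.TensRestrict.restrictIso j I W).symm ≪≫ (Scheme.Modules.restrictFunctor j).mapIso g
  have h5 : Module.Finite k (HV U ((DCoh.sheafHom (F.restrict j)).obj (W.restrict j)) m) := h4
  exact Module.Finite.equiv ((hvIso k g' m).trans (HV.equiv k _ m))

end K778.DualGen
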