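import Groth.Statements.S11387
import Groth.Agent.Lef.K184.FormalHH
import Groth.Agent.Dual.H367.IdMul
import Groth.Agent.CohDim.K778.DualGen
import Groth.Agent.LoccohB.AdPn704
import Groth.Agent.Surf.K461.ProperForm
import Groth.Agent.Localalg.LichtAsm
import Groth.Agent.Sga67.TwistProj
import Groth.Agent.Sga67.SerreVB
import Groth.Agent.S1824

/-!
# Formal duality on `P^n`: bounded ranks imply finite-dimensional cohomology of the complement

`Y = V(𝓘) ⊆ P^n_k`, `U = P^n ∖ Y`, `J` a decreasing sequence of ideals cofinal with the powers of `𝓘`: if the maps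
`H^a(P^n, J_e' O(l)) → H^a(P^n, J_e O(l))` have rank `≤ B` for `e' ≫ e`, then `H^(n-a)(U, O(-l-n-1))` is
finite-dimensional.
-/

set_option autoImplicit false
universe u
open CategoryTheory CategoryTheory.Limits AlgebraicGeometry TopologicalSpace CohDim
open Groth.Agent Groth.Agent.CurvesC

namespace K778.Dual

open K184.FormalDual Groth.Agent.Dual.H367 Groth.Agent.FormalB.TrKQuot Groth.Agent.FormalB.KQuot

section Sys

variable {X : Scheme.{u}}

theorem exists_p {I J : X.IdealSheafData} (h : J ≤ I) (F : X.Modules) :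
    ∃ p : kq J F ⟶ kq I F, kπ J F ≫ p = kπ I F := by
  have := epi_kπ J F
  exact ⟨(Abelian.epiIsCokernelOfKernel (Fork.ofι (kernel.ι (kπ J F)) (kernel.condition _))
    (kernelIsKernel _)).desc (CokernelCofork.ofπ (kπ I F)
      (IdMul.idealMulι_comp_kπ_of_le h F)),
    (Abelian.epiIsCokernelOfKernel (Fork.ofι (kernel.ι (kπ J F))
      (kernel.condition _)) (kernelIsKernel _)).fac _ WalkingParallelPair.one⟩

/-- The system `J_t F`. -/
noncomputable def sys (J : ℕ → X.IdealSheafData) (hJ : ∀ {a b : ℕ}, a ≤ b → J b ≤ J a) (F : X.Modules) : Sys F :=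
  Sys.ofEpi (fun t => kq (J t) F) (fun t => kπ (J t) F) (fun t => epi_kπ (J t) F)
    (fun h => (exists_p (hJ h) F).choose) (fun h => (exists_p (hJ h) F).choose_spec)

theorem sys_s (J : ℕ → X.IdealSheafData) (hJ : ∀ {a b : ℕ}, a ≤ b → J b ≤ J a) (F : X.Modules) {t t' : ℕ}
    (h : t ≤ t') : (sys J hJ F).s h = IdMul.tr (hJ h) F :=
  (cancel_mono ((sys J hJ F).ι t)).1 (((sys J hJ F).s_ι h).trans (IdMul.tr_ι (hJ h) F).symm)

theorem kills {U : Scheme.{u}} (j : U ⟶ X) [IsOpenImmersion j] [IsNoetherian X] (I : X.IdealSheafData)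
    {F : X.Modules} (hF : Coh.IsCoh F) (hI : I.supportSetᶜ = Set.range j)
    (J : ℕ → X.IdealSheafData) (hJ : ∀ {a b : ℕ}, a ≤ b → J b ≤ J a)
    (h1 : ∀ N : ℕ, ∃ e : ℕ, J e ≤ I ^ N) (h2 : ∀ e : ℕ, ∃ N : ℕ, I ^ N ≤ J e) :
    Kills j (sys J hJ F) := by
  refine Kills.of_ideal j I hF hI _ (fun t => (IdMul.isCoh_idealMul (J t) hF).1) (fun n => ?_) (fun t => ?_)
  · obtain ⟨e, he⟩ := h1 n
    exact ⟨e, IdMul.tr he F, IdMul.tr_ι he F⟩
  · obtain ⟨n, hn⟩ := h2 t
    exact ⟨n, IdMul.tr hn F, IdMul.tr_ι hn F⟩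

end Sys

section Form

attribute [local instance] HasDerivedCategory.standard
attribute [local instance] LinMod.linearModules

open Groth.Agent.CurvesC.RepX

/-- The perfect form for `O(-n-1)[n]` on `P^n`. -/
theorem exists_form (k : Type u) [Field k] (n : ℕ) :
    ∃ τ : (P (CohB1.ProjSpace n k) ⟶
        (DCoh.inD (CohB1.ProjSpace n k) (Twist.twistProjSpace n k (-((n : ℤ) + 1))))⟦(n : ℤ)⟧) →ₗ[k] k,
      ∀ K : DCoh.D (CohB1.ProjSpace n k), DCoh.IsQCohD K →
        Function.Bijective (K184.FormalDualAbs.pair k τ K) := by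
  have hp : IsProper (CohB1.ProjSpace n k ↘ Spec (CommRingCat.of k)) := Ega3B.ProjProper.isProper_toSpec n k
  obtain ⟨hR, h, hs, OY, hOY⟩ := K461.ProperForm.exists_data k (CohB1.ProjSpace n k)
  exact K461.ProperForm.exists_form_of_adj k (CohB1.ProjSpace n k) h _
    (DCoh.shriekAdj (CohB1.ProjSpace n k ↘ Spec (CommRingCat.of k)) h) OY hOY (n : ℤ)
    (@Groth.Agent.S1824.result n k _ hR h _ (DCoh.shriekAdj (CohB1.ProjSpace n k ↘ Spec (CommRingCat.of k)) h) OY hOY)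

end Form

theorem dual (k : Type u) [Field k] [IsAlgClosed k] (n : ℕ)
    (𝓘 : (CohB1.ProjSpace n k).IdealSheafData)
    (U : (CohB1.ProjSpace n k).Opens)
    (hU : (U : Set (CohB1.ProjSpace n k)) = (𝓘.support : Set (CohB1.ProjSpace n k))ᶜ)
    (J : ℕ → (CohB1.ProjSpace n k).IdealSheafData) (hJ : ∀ {a b : ℕ}, a ≤ b → J b ≤ J a)
    (h1 : ∀ N : ℕ, ∃ e : ℕ, J e ≤ 𝓘 ^ N) (h2 : ∀ e : ℕ, ∃ N : ℕ, 𝓘 ^ N ≤ J e)
    (l : ℤ) (a : ℕ) (ha : a ≤ n) (B : ℕ)
    (hB : ∀ e : ℕ, ∃ (e' : ℕ) (h : e ≤ e'), Module.finrank k (LinearMap.range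
      (HV.map k (Dual.H367.IdMul.tr (hJ h) (Twist.twistProjSpace n k l)) a)) ≤ B) :
    Module.Finite k (Coh.HH (U : Scheme.{u})
      ((Twist.twistProjSpace n k (-l - ((n : ℤ) + 1))).restrict U.ι) (n - a)) := by
  have hp : IsProper (CohB1.ProjSpace n k ↘ Spec (CommRingCat.of k)) := Ega3B.ProjProper.isProper_toSpec n k
  have hN : IsNoetherian (CohB1.ProjSpace n k) :=
    Localalg.LichtAsm.isNoetherian (CohB1.ProjSpace n k ↘ Spec (CommRingCat.of k))
  have hNU : IsNoetherian (U : Scheme.{u}) := by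
    have h1 : IsLocallyNoetherian (U : Scheme.{u}) := inferInstance
    have h2 : CompactSpace (U : Scheme.{u}) :=
      isCompact_iff_compactSpace.1 (NoetherianSpace.isCompact (U : Set (CohB1.ProjSpace n k)))
    exact ⟨⟩
  have hI : 𝓘.supportSetᶜ = Set.range U.ι := by
    rw [Scheme.Opens.range_ι]
    exact hU.symm
  have hF := LoccohB.AdPn704.isCoh_twistProjSpace n k l
  have hW := LoccohB.AdPn704.isCoh_twistProjSpace n k (-((n : ℤ) + 1))
  obtain ⟨τ, hτ⟩ := exists_form k n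
  obtain ⟨e1⟩ := Sga67.TwistProj.nonempty_mul n k l (-l)
  obtain ⟨e0⟩ := Sga67.SerreVB.nonempty_twist_zero n k
  rw [add_neg_cancel] at e1
  obtain ⟨g⟩ := Sga67.TwistProj.nonempty_mul n k (-l) (-((n : ℤ) + 1))
  rw [show -l + -((n : ℤ) + 1) = -l - ((n : ℤ) + 1) by ring] at g
  refine DualGen.finite_HH k U.ι rfl hW.1 n τ hτ ?_ (e1 ≪≫ e0) g (sys J hJ (Twist.twistProjSpace n k l))
    (kills U.ι 𝓘 hF hI J hJ h1 h2) (fun t => IdMul.isCoh_idealMul (J t) hF) a (n - a) (by omega) B fun t => ?_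
  · intro x
    obtain ⟨V, hV, ⟨e⟩⟩ := Ega3B.ProjFrame.isInvertible_twistProjSpace n k l x
    exact ⟨V, 1, hV, ⟨e ≪≫ (Limits.coproductUniqueIso (fun _ : Fin 1 => Coh.structureModule (V : Scheme.{u}))).symm⟩⟩
  · obtain ⟨t', h, hr⟩ := hB t
    refine ⟨t', h, ?_⟩
    rw [sys_s]
    exact hr

end K778.Dual
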